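import Mathlib
import Groth.Agent.Lib.Helper5.IntN.Krull
import Groth.Agent.Lib.Helper5.Snap.Main

/-!
# Codimension of points of a small closed subset (helper5; S18966)
-/

set_option autoImplicit false
universe u
open CategoryTheory CategoryTheory.Limits AlgebraicGeometry TopologicalSpace Opposite

namespace Groth.Agent.H5.MuRefl

open Groth.Agent.H1.DimIneq Groth.Agent.H1.DimFormula Groth.Agent.H3.FibDimIrr

variable {k : Type u} [Field k]

/-- the dimension formula `dim T = dim O_{T,w} + dim closure {w}` on an irreducible scheme locally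
of finite type over a field. -/
theorem dim_eq_stalk_add_closure {T : Scheme.{u}} (g : T ⟶ Spec (CommRingCat.of k))
    [LocallyOfFiniteType g] [IrreducibleSpace T] (w : T) :
    topologicalKrullDim T = ringKrullDim (T.presheaf.stalk w) +
      topologicalKrullDim ↥(closure ({w} : Set T)) := by
  obtain ⟨t, ht, h1⟩ := exists_localDim_eq_stalk_add_trdeg g w
  obtain ⟨t', ht', h2⟩ := Groth.Agent.H1.ClosureDim.exists_trdeg_eq_dim_closure g w
  have htt : t = t' := by
    have := ht.symm.trans ht'
    exact_mod_cast this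
  rw [h2, ← Groth.Agent.H1.EquiDim.localDim_eq_dim g w, h1, htt]

/-- points of a closed subset of dimension `≤ n - 2` have local rings of dimension `≥ 2`. -/
theorem not_stalk_dim_le_one {T : Scheme.{u}} (g : T ⟶ Spec (CommRingCat.of k))
    [LocallyOfFiniteType g] [IrreducibleSpace T] (n m : ℕ)
    (hT : topologicalKrullDim T = (n : WithBot ℕ∞)) (Z : Set T) (hZ : IsClosed Z)
    (hdim : topologicalKrullDim ↥Z ≤ (m : WithBot ℕ∞)) (hmn : m + 2 ≤ n) (x : T) (hx : x ∈ Z) :
    ¬ ringKrullDim (T.presheaf.stalk x) ≤ 1 := by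
  intro h
  have hsub : closure ({x} : Set T) ⊆ Z :=
    hZ.closure_subset_iff.mpr (Set.singleton_subset_iff.mpr hx)
  have h1 : topologicalKrullDim ↥(closure ({x} : Set T)) ≤ topologicalKrullDim ↥Z :=
    Groth.Agent.H5.Snap.dim_mono hsub
  have h2 := dim_eq_stalk_add_closure g x
  rw [hT] at h2
  have h3 : (n : WithBot ℕ∞) ≤ 1 + (m : WithBot ℕ∞) := by
    rw [h2]; exact add_le_add h (h1.trans hdim)
  have h4 : n ≤ 1 + m := by exact_mod_cast h3
  omega

end Groth.Agent.H5.MuRefl
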