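import Mathlib
import Groth.Agent.Lib.Lead.Misc3.NormSS2
import Groth.Agent.Lib.Helper2.HomSh5

/-!
# Reflexive coherent modules on an integral scheme are pure (helper5; S18966, S18968)
-/

set_option autoImplicit false
universe u
open CategoryTheory CategoryTheory.Limits AlgebraicGeometry TopologicalSpace Opposite

attribute [-instance] Groth.Agent.LD.QC.stalkModule

namespace Groth.Agent.H5.MuRefl

open Groth.Agent.LD Groth.Agent.LD.QC Groth.Agent.H5.Curve4

variable {X : Scheme.{u}} [IsIntegral X]

/-- the stalks of a reflexive coherent module are reflexive. -/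
theorem reflexive_stalks [IsLocallyNoetherian X] {F : X.Modules} (hFc : Coh.IsCoh F)
    (hFr : RefHull.IsReflexive F) (x : X) :
    Module.IsReflexive (X.presheaf.stalk x) (F.presheaf.stalk x) :=
  (Groth.Agent.H2.HomSh.isReflexive_iff_stalk hFc).mp hFr x

/-- the stalks of a reflexive coherent module on an integral scheme are torsion-free. -/
theorem torsion_eq_bot_of_isReflexive [IsLocallyNoetherian X] {F : X.Modules} (hFc : Coh.IsCoh F)
    (hFr : RefHull.IsReflexive F) (x : X) :
    Submodule.torsion (X.presheaf.stalk x) (F.presheaf.stalk x) = ⊥ := by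
  haveI := reflexive_stalks hFc hFr x
  exact Submodule.isTorsionFree_iff_torsion_eq_bot.mp inferInstance

/-- a coherent module with torsion-free stalks on an integral Noetherian scheme of dimension `n`
is pure of dimension `n`. -/
theorem isPure_of_torsionFree [IsNoetherian X] (n : ℕ)
    (hdim : topologicalKrullDim X = (n : WithBot ℕ∞)) {E : X.Modules} (hEc : Coh.IsCoh E)
    (htf : ∀ y : X, Submodule.torsion (X.presheaf.stalk y) (E.presheaf.stalk y) = ⊥) :
    ShStab.IsPure X E n := by
  haveI := hEc.1
  intro F ι hι hF hF0
  haveI := hι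
  have hnt : ¬ IsTors F := fun ht =>
    hF0 (IsZero.of_mono_eq_zero ι
      (Groth.Agent.H5.SurfGrowth.hom_eq_zero_of_isTors E htf ht ι))
  rw [Groth.Agent.LD.NormSS.dim_support_of_not_isTors hF hnt, hdim]

end Groth.Agent.H5.MuRefl
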