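import Mathlib
import Groth.Agent.Lib.Helper5.HP.HP13

/-!
# Morphisms of slope-stable modules: the numerical part (helper5; S18966)
-/

set_option autoImplicit false
universe u
open CategoryTheory CategoryTheory.Limits AlgebraicGeometry Opposite TopologicalSpace

namespace Groth.Agent.H5.MuRefl

open Groth.Agent.LD Groth.Agent.LD.QC StabCat Groth.Agent.H5.Deg Groth.Agent.H5.HP

variable (k : Type u) [Field k] (X : Scheme.{u}) [X.Over (Spec (CommRingCat.of k))]
  [IsProper (X ↘ Spec (CommRingCat.of k))] {L : X.Modules} (hA : CohB1.IsAmple L) (n : ℕ)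

lemma isMuSemistable_of_isMuStable {E : X.Modules} (h : ShStab.IsMuStable k X L E n) :
    ShStab.IsMuSemistable k X L E n :=
  ⟨h.1, h.2.1, h.2.2.1, h.2.2.2.1, fun F ι hι hF pF pE hpF hpE h0 h1 =>
    (h.2.2.2.2 F ι hι hF pF pE hpF hpE h0 h1).le⟩

/-- numeric: weighted average, strict form. -/
lemma hatSlope_gt_of_sum {n : ℕ} {pF pK pI : Polynomial ℚ} (hsum : pF = pK + pI)
    (hK : 0 < alpha n pK) (hI : 0 < alpha n pI) (h : hatSlope n pK < hatSlope n pF) :
    hatSlope n pF < hatSlope n pI := by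
  unfold hatSlope at *
  rw [hsum, alpha_add, alpha_add] at *
  set a := alpha n pK
  set b := alpha n pI
  set x := alpha (n - 1) pK
  set y := alpha (n - 1) pI
  have hab : 0 < a + b := by linarith
  rw [div_lt_div_iff₀ hK hab] at h
  rw [div_lt_div_iff₀ hab hI]
  nlinarith

include hA in
/-- a nonzero morphism `F ⟶ G` of slope-stable pure modules with `μ(G) ≤ μ(F)` is a monomorphism,
and the two top coefficients of the Hilbert polynomials agree. -/
theorem mono_and_coeffs {F G : X.Modules} (hFt : ShStab.IsPure X F n)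
    (hGt : ShStab.IsPure X G n) (hF : ShStab.IsMuStable k X L F n)
    (hG : ShStab.IsMuStable k X L G n) {pF pG : Polynomial ℚ}
    (hpF : ShStab.IsHilbPoly k X L F pF) (hpG : ShStab.IsHilbPoly k X L G pG)
    (hle : hatSlope n pG ≤ hatSlope n pF) (φ : F ⟶ G) (hφ : φ ≠ 0) :
    Mono φ ∧ alpha n pF = alpha n pG ∧ alpha (n - 1) pF = alpha (n - 1) pG := by
  have hGs := isMuSemistable_of_isMuStable k X n hG
  have hK := isCoh_kernel' k X (φ := φ) hF.1 hG.1
  have hI := isCoh_coimage k X (φ := φ) hF.1 hG.1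
  obtain ⟨pK, hpK⟩ := exists_isHilbPoly k X L hA _ hK
  obtain ⟨pI, hpI⟩ := exists_isHilbPoly k X L hA _ hI
  have hsum := hilbPoly_kerCoim k X L hA hF.1 hG.1 φ hpF hpK hpI
  have hI0 := not_isZero_coimage φ hφ
  haveI : Mono (Abelian.factorThruCoimage φ) := inferInstance
  have hIG := hatSlope_le_of_mono_of_isMuSemistable k X hA n hGt hGs hI hI0
    (Abelian.factorThruCoimage φ) hpI hpG
  have hIpos := alpha_pos_of_isPure k X hA n hGt (Abelian.factorThruCoimage φ) hI hI0 hpI
  have hK0 : IsZero (kernel φ) := by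
    by_contra hK0
    have hKpos := alpha_pos_of_isPure k X hA n hFt (kernel.ι φ) hK hK0 hpK
    have hlt : alpha n pK < alpha n pF := by rw [hsum, alpha_add]; linarith
    have hKF := hF.2.2.2.2 (kernel φ) (kernel.ι φ) inferInstance hK pK pF hpK hpF hKpos hlt
    have := hatSlope_gt_of_sum hsum hKpos hIpos hKF
    exact absurd (this.trans_le hIG) (not_lt.mpr hle)
  have hpK0 : pK = 0 := isHilbPoly_unique k X L _ hpK (isHilbPoly_of_isZero k X L hA.1 hK0)
  rw [hpK0, zero_add] at hsum
  have hmono : Mono φ := mono_of_isZero_kernel φ hK0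
  obtain ⟨h1, h2⟩ := alpha_le_of_mono k X hA n hG.1 hI (Abelian.factorThruCoimage φ)
    hG.2.2.1 hpI hpG
  rw [← hsum] at h1 h2 hIpos
  have heq : alpha n pF = alpha n pG := by
    rcases lt_or_eq_of_le h1 with h | h
    · have hpI' : ShStab.IsHilbPoly k X L (Abelian.coimage φ) pF := hsum ▸ hpI
      have := hG.2.2.2.2 _ (Abelian.factorThruCoimage φ) inferInstance hI pF pG hpI' hpG hIpos h
      exact absurd hle (not_le.mpr this)
    · exact h
  have h3 := h2 heq
  have hpos : 0 < alpha n pG := heq ▸ hIpos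
  have h4 : alpha (n - 1) pG ≤ alpha (n - 1) pF := by
    unfold hatSlope at hle
    rw [heq] at hle
    exact (div_le_div_iff_of_pos_right hpos).mp hle
  exact ⟨hmono, heq, le_antisymm h3 h4⟩

include hA in
/-- if the two top coefficients agree, the cokernel of a monomorphism is zero or has support of
dimension `≤ n - 2`. -/
theorem dim_support_cokernel_le {F G : X.Modules} (hFc : Coh.IsCoh F) (hGc : Coh.IsCoh G)
    (hdim : topologicalKrullDim (CohB1.support G) = (n : WithBot ℕ∞)) (φ : F ⟶ G) [Mono φ]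
    {pF pG : Polynomial ℚ} (hpF : ShStab.IsHilbPoly k X L F pF)
    (hpG : ShStab.IsHilbPoly k X L G pG) (h1 : alpha n pF = alpha n pG)
    (h2 : alpha (n - 1) pF = alpha (n - 1) pG) (hn : 1 ≤ n) :
    IsZero (cokernel φ) ∨ ∃ m : ℕ, m + 2 ≤ n ∧
      topologicalKrullDim (CohB1.support (cokernel φ)) ≤ (m : WithBot ℕ∞) := by
  obtain ⟨pC, hpC, hsum⟩ := exists_hilbPoly_cokernel k X hA hGc hFc φ hpF hpG
  have hC := isCoh_cokernel φ hFc hGc
  have hsub : CohB1.support (cokernel φ) ⊆ CohB1.support G := support_subset_of_epi (cokernel.π φ)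
  have hle := natDegree_le_of_support_subset k X hA n hC hGc hsub hdim hpC
  by_cases hC0 : IsZero (cokernel φ)
  · exact Or.inl hC0
  right
  have hdeg := natDegree_eq_dim k X hA _ hC hC0 hpC
  have hlc := leadingCoeff_pos k X L hA _ hC hC0 hpC
  have coeff_zero : ∀ d : ℕ, alpha d pF = alpha d pG → pC.coeff d = 0 := by
    intro d hd
    rw [hsum, alpha_add] at hd
    have h0 : alpha d pC = 0 := by linarith
    unfold alpha at h0
    rcases mul_eq_zero.mp h0 with h | h
    · exact absurd h (by positivity)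
    · exact h
  have hc1 := coeff_zero n h1
  have hc2 := coeff_zero (n - 1) h2
  have hd1 : pC.natDegree ≠ n := fun h => by
    rw [Polynomial.leadingCoeff, h, hc1] at hlc; exact lt_irrefl _ hlc
  have hd2 : pC.natDegree ≠ n - 1 := fun h => by
    rw [Polynomial.leadingCoeff, h, hc2] at hlc; exact lt_irrefl _ hlc
  exact ⟨pC.natDegree, by omega, le_of_eq hdeg.symm⟩

end Groth.Agent.H5.MuRefl
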