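import Mathlib
import Groth.Agent.Lib.Helper5.MuRefl.Pure
import Groth.Agent.Lib.Helper5.MuRefl.Codim
import Groth.Agent.Lib.Helper5.MuRefl.Hartogs
import Groth.Agent.Lib.Helper5.MuRefl.Slope
import Groth.Agent.Lib.Helper5.HP.HP6
import Groth.Agent.Lib.Helper1.SmoothDepth

/-!
# Morphisms of slope-stable reflexive modules on a smooth projective variety (helper5)

* `isIso_of_isMuStable` (**S18966**): a nonzero morphism `F ⟶ G` of slope-stable reflexive modules
  with `μ(G) ≤ μ(F)` is an isomorphism.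
* `endo_scalar_of_isMuStable` (**S18968**): over an algebraically closed field, endomorphisms of
  a slope-stable reflexive module are scalars.
-/

set_option autoImplicit false
universe u
open CategoryTheory CategoryTheory.Limits AlgebraicGeometry Opposite TopologicalSpace

attribute [-instance] Groth.Agent.LD.QC.stalkModule

namespace Groth.Agent.H5.MuRefl

open Groth.Agent.LD Groth.Agent.LD.QC StabCat Groth.Agent.H5.HP

variable (k : Type u) [Field k] (X : Scheme.{u}) [X.Over (Spec (CommRingCat.of k))]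
  [IsIntegral X] [IsProper (X ↘ Spec (CommRingCat.of k))] [Smooth (X ↘ Spec (CommRingCat.of k))]
  (n : ℕ) (hn : 1 ≤ n) (hX : topologicalKrullDim X = (n : WithBot ℕ∞))
  {L : X.Modules} (hL : CohB1.IsAmple L)

include hn hX hL in
/-- **S18966**. -/
theorem isIso_of_isMuStable {F G : X.Modules} (hFr : RefHull.IsReflexive F)
    (hGr : RefHull.IsReflexive G) (hF : ShStab.IsMuStable k X L F n)
    (hG : ShStab.IsMuStable k X L G n) {pF pG : Polynomial ℚ}
    (hpF : ShStab.IsHilbPoly k X L F pF) (hpG : ShStab.IsHilbPoly k X L G pG)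
    (hle : hatSlope n pG ≤ hatSlope n pF) (φ : F ⟶ G) (hφ : φ ≠ 0) : IsIso φ := by
  haveI : IsNoetherian X := Groth.Agent.H5.Curve2.isNoetherian_of_proper k X
  have hFt := isPure_of_torsionFree n hX hF.1 (torsion_eq_bot_of_isReflexive hF.1 hFr)
  have hGt := isPure_of_torsionFree n hX hG.1 (torsion_eq_bot_of_isReflexive hG.1 hGr)
  obtain ⟨hmono, h1, h2⟩ := mono_and_coeffs k X hL n hFt hGt hF hG hpF hpG hle φ hφ
  haveI := hmono
  have hreg : ∀ x : X, IsRegularLocalRing (X.presheaf.stalk x) := fun x =>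
    Groth.Agent.H1.SmoothDepth.isRegularLocalRing_stalk_of_smooth k
      (X ↘ Spec (CommRingCat.of k)) x
  apply isIso_of_reflexive_stalks X hreg F G hF.1 hG.1 (reflexive_stalks hF.1 hFr)
    (reflexive_stalks hG.1 hGr) φ
  intro x hx
  have hC := isCoh_cokernel φ hF.1 hG.1
  rcases dim_support_cokernel_le k X hL n hF.1 hG.1 hG.2.2.1 φ hpF hpG h1 h2 hn with
    h0 | ⟨m, hm, hdim⟩
  · exact absurd (subsingleton_stalk_of_isZero _ h0 x) hx
  · exact not_stalk_dim_le_one (X ↘ Spec (CommRingCat.of k)) n m hX _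
      (isClosed_support_of_isCoh hC) hdim hm x hx

include hn hX hL in
/-- **S18968**. -/
theorem endo_scalar_of_isMuStable [IsAlgClosed k] {F : X.Modules} (hFr : RefHull.IsReflexive F)
    (hF : ShStab.IsMuStable k X L F n) (φ : F ⟶ F) :
    ∃ c : k, φ = Ann.smulEnd F (Coh.toGlobal (X ↘ Spec (CommRingCat.of k)) c) := by
  obtain ⟨x, hx, hnt⟩ := exists_closed_point_stalk k X F hF.1 hF.2.1
  haveI := hnt
  haveI : F.IsQuasicoherent := hF.1.1
  haveI : @Module.Finite (X.presheaf.stalk x) (F.presheaf.stalk x) _ _ (QC.stalkModule F x) :=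
    Groth.Agent.H1.CohLen.finite_stalk F hF.1.2 x
  obtain ⟨c, hc⟩ := Groth.Agent.H5.Eig.exists_not_isIso_sub_smul_of_finite
    (X ↘ Spec (CommRingCat.of k)) x hx F φ
  obtain ⟨pF, hpF⟩ := exists_isHilbPoly k X L hL _ hF.1
  refine ⟨c, ?_⟩
  by_contra hne
  apply hc
  apply isIso_of_isMuStable k X n hn hX hL hFr hFr hF hF hpF hpF le_rfl
  intro h
  exact hne (sub_eq_zero.mp h)

end Groth.Agent.H5.MuRefl
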